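import Mathlib
import Groth.Prelude.Def_ConstAct
import Groth.Agent.H05EGA4.Regular
import Groth.Agent.H02CA.PowerSeries

/-!
# Invariants of groups generated by pseudo-reflections

If a finite group of invertible order acts on a local ring and is generated by elements `g` for which the ideal
generated by the `g a - a` is principal inside the maximal ideal, the ring is flat over the invariants.
-/

set_option autoImplicit false
set_option linter.style.haveILetI false

universe u

open TensorProduct

noncomputable section

namespace Groth.Agent.H14ConstAct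

variable {k : Type u} [Field k] {A : Type u} [CommRing A] [Algebra k A]
  {G : Type u} [Group G] [MulSemiringAction G A]

/-- The ideal generated by the `g a - a`. -/
abbrev moveIdeal (A : Type u) [CommRing A] {G : Type u} [Group G] [MulSemiringAction G A] (g : G) : Ideal A :=
  Ideal.span {x : A | ∃ a, x = g • a - a}

theorem smul_sub_mem {g h : G} (hh : h ∈ Submonoid.powers g) (a : A) : h • a - a ∈ moveIdeal A g := by
  obtain ⟨j, rfl⟩ := hh
  induction j generalizing a with
  | zero => simp
  | succ j ih =>
    have h1 : g • a - a ∈ moveIdeal A g := Ideal.subset_span ⟨a, rfl⟩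
    have h2 := ih (g • a)
    change g ^ (j + 1) • a - a ∈ _
    rw [pow_succ, mul_smul, ← sub_add_sub_cancel _ (g • a) a]
    exact Ideal.add_mem _ h2 h1

section average

variable [SMulCommClass G k A] [Fintype G]

theorem smul_algebraMap' (g : G) (c : k) : g • (algebraMap k A c) = algebraMap k A c := by
  rw [Algebra.algebraMap_eq_smul_one, smul_comm, smul_one]

/-- The Reynolds operator. -/
def avg (k : Type u) [Field k] {A : Type u} [CommRing A] [Algebra k A] (G : Type u) [Group G]
    [MulSemiringAction G A] [Fintype G] (a : A) : A :=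
  algebraMap k A (Fintype.card G : k)⁻¹ * ∑ g : G, g • a

theorem smul_avg (h : G) (a : A) : h • avg k G a = avg k G a := by
  rw [avg, smul_mul', smul_algebraMap', Finset.smul_sum]
  congr 1
  simp only [← mul_smul]
  exact Fintype.sum_equiv (Equiv.mulLeft h) _ _ fun _ => rfl

theorem avg_of_fixed (hG : (Fintype.card G : k) ≠ 0) {a : A} (ha : ∀ g : G, g • a = a) : avg k G a = a := by
  rw [avg, Finset.sum_congr rfl fun g _ => ha g, Finset.sum_const, Finset.card_univ, nsmul_eq_mul,
    ← map_natCast (algebraMap k A), ← mul_assoc, ← map_mul, inv_mul_cancel₀ hG, map_one, one_mul]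

theorem avg_mem (a : A) : avg k G a ∈ ConstAct.inv k A G := fun g => smul_avg g a

/-- The Reynolds operator is linear over the invariants. -/
def avgₗ (k : Type u) [Field k] (A : Type u) [CommRing A] [Algebra k A] (G : Type u) [Group G]
    [MulSemiringAction G A] [SMulCommClass G k A] [Fintype G] : A →ₗ[ConstAct.inv k A G] ConstAct.inv k A G where
  toFun a := ⟨avg k G a, avg_mem a⟩
  map_add' a b := Subtype.ext (by simp only [avg, smul_add, Finset.sum_add_distrib, mul_add]; rfl)
  map_smul' b a := Subtype.ext (by
    change avg k G ((b : A) * a) = (b : A) * avg k G a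
    simp only [avg, smul_mul']
    rw [Finset.sum_congr rfl fun g _ => by rw [show g • (b : A) = b from b.2 g], ← Finset.mul_sum]
    ring)

end average

section main

variable [SMulCommClass G k A] [Finite G]

theorem isNoetherianRing_inv (hG : (Nat.card G : k) ≠ 0) [IsNoetherianRing A] :
    IsNoetherianRing (ConstAct.inv k A G) := by
  haveI := Fintype.ofFinite G
  rw [Nat.card_eq_fintype_card] at hG
  let B := ConstAct.inv k A G
  have key : ∀ J : Ideal B, (J.map (algebraMap B A)).comap (algebraMap B A) = J := by
    intro J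
    refine le_antisymm (fun b hb => ?_) Ideal.le_comap_map
    have hmem : ∀ x : A, x ∈ J.map (algebraMap B A) → avgₗ k A G x ∈ J := by
      intro x hx
      have h : ∀ a : A, avgₗ k A G (a * x) ∈ J := by
        induction hx using Submodule.span_induction with
        | mem y hy =>
          obtain ⟨j, hj, rfl⟩ := hy
          intro a
          rw [show a * algebraMap B A j = j • a from (mul_comm _ _).trans (Algebra.smul_def j a).symm, map_smul]
          exact J.mul_mem_right _ hj
        | zero => intro a; simp
        | add y z _ _ hy hz => intro a; rw [mul_add, map_add]; exact J.add_mem (hy a) (hz a)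
        | smul c y _ hy => intro a; rw [smul_eq_mul, ← mul_assoc]; exact hy _
      simpa using h 1
    have h := hmem _ hb
    rwa [show avgₗ k A G (algebraMap B A b) = b from Subtype.ext (avg_of_fixed hG b.2)] at h
  rw [isNoetherianRing_iff, ← monotone_stabilizes_iff_noetherian]
  intro f
  obtain ⟨n, hn⟩ := monotone_stabilizes_iff_noetherian.2 (inferInstance : IsNoetherian A A)
    ⟨fun m => Ideal.map (algebraMap B A) (f m), fun a b h => Ideal.map_mono (f.mono h)⟩
  exact ⟨n, fun m hm => by rw [← key (f n), ← key (f m)]; exact congrArg _ (hn m hm)⟩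

theorem isLocalHom_inv : IsLocalHom (algebraMap (ConstAct.inv k A G) A) := ⟨fun b hb => by
  obtain ⟨v, hv⟩ := isUnit_iff_exists_inv.1 hb
  have hv' : (b : A) * v = 1 := hv
  have hfix : v ∈ ConstAct.inv k A G := fun g => by
    have h := congrArg (g • ·) hv'
    simp only [smul_mul', smul_one, show g • (b : A) = b from b.2 g] at h
    calc g • v = (b : A) * v * (g • v) := by rw [hv', one_mul]
      _ = v * ((b : A) * g • v) := by ring
      _ = v := by rw [h, mul_one]
  exact isUnit_iff_exists_inv.2 ⟨⟨v, hfix⟩, Subtype.ext hv'⟩⟩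

theorem isLocalRing_inv [IsLocalRing A] : IsLocalRing (ConstAct.inv k A G) :=
  haveI := isLocalHom_inv (k := k) (A := A) (G := G)
  RingHom.domain_isLocalRing (algebraMap (ConstAct.inv k A G) A)

/-- Flatness over the invariants of a group generated by pseudo-reflections. -/
theorem free_inv [IsLocalRing A] [IsNoetherianRing A] [Module.Finite (ConstAct.inv k A G) A]
    (hG : (Nat.card G : k) ≠ 0) (S : Set G) (hS : Subgroup.closure S = ⊤)
    (hgen : ∀ g ∈ S, ∃ ℓ ∈ IsLocalRing.maximalIdeal A, (∀ x, ℓ * x = 0 → x = 0) ∧
      ∀ a, g • a - a ∈ Ideal.span {ℓ}) :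
    Module.Free (ConstAct.inv k A G) A := by
  haveI := Fintype.ofFinite G
  rw [Nat.card_eq_fintype_card] at hG
  haveI := isNoetherianRing_inv (k := k) (A := A) (G := G) (by rwa [Nat.card_eq_fintype_card])
  haveI := isLocalRing_inv (k := k) (A := A) (G := G)
  let B := ConstAct.inv k A G
  let mB := IsLocalRing.maximalIdeal B
  let M := IsLocalRing.maximalIdeal A
  haveI : Module.FinitePresentation B A := Module.finitePresentation_of_finite B A
  refine Module.free_of_maximalIdeal_rTensor_injective ?_
  rw [← LinearMap.lTensor_inj_iff_rTensor_inj]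
  let f : mB →ₗ[B] B := mB.subtype
  let T : Submodule A (A ⊗[B] mB) := LinearMap.ker (f.baseChange A)
  have hT : ∀ t, t ∈ T ↔ f.lTensor A t = 0 := fun t => Iff.rfl
  let act : G → A →ₗ[B] A := fun g =>
    { toFun := fun a => g • a
      map_add' := smul_add g
      map_smul' := fun b a => by
        change g • ((b : A) * a) = (b : A) * g • a
        rw [smul_mul', show g • (b : A) = b from b.2 g] }
  have hcomm : ∀ (u : A →ₗ[B] A) (t : A ⊗[B] mB), f.lTensor A (u.rTensor mB t) = u.rTensor B (f.lTensor A t) := by
    intro u t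
    rw [← LinearMap.comp_apply, ← LinearMap.comp_apply, LinearMap.lTensor_comp_rTensor,
      LinearMap.rTensor_comp_lTensor]
  have hstab : ∀ (u : A →ₗ[B] A) (t : A ⊗[B] mB), t ∈ T → u.rTensor mB t ∈ T := fun u t ht => by
    rw [hT, hcomm, (hT t).1 ht, map_zero]
  have hQ : ∀ g : G, ∀ t ∈ T, (act g).rTensor mB t - t ∈ M • T := by
    have hmul : ∀ g h : G, (∀ t ∈ T, (act g).rTensor mB t - t ∈ M • T) →
        (∀ t ∈ T, (act h).rTensor mB t - t ∈ M • T) → ∀ t ∈ T, (act (g * h)).rTensor mB t - t ∈ M • T := by
      intro g h hg hh t ht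
      have e : act (g * h) = act g ∘ₗ act h := LinearMap.ext fun a => mul_smul g h a
      rw [e, LinearMap.rTensor_comp, LinearMap.comp_apply,
        ← sub_add_sub_cancel _ ((act h).rTensor mB t) t]
      exact Submodule.add_mem _ (hg _ (hstab _ _ ht)) (hh t ht)
    have hone : ∀ t ∈ T, (act 1).rTensor mB t - t ∈ M • T := fun t _ => by
      rw [show act 1 = LinearMap.id from LinearMap.ext fun a => one_smul G a, LinearMap.rTensor_id,
        LinearMap.id_apply, sub_self]
      exact zero_mem _
    have hmem : ∀ g ∈ S, ∀ t ∈ T, (act g).rTensor mB t - t ∈ M • T := by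
      intro g hg t ht
      obtain ⟨ℓ, hℓM, hℓ0, hℓ⟩ := hgen g hg
      choose φ hφ using fun a => Ideal.mem_span_singleton'.1 (hℓ a)
      let φₗ : A →ₗ[B] A :=
        { toFun := φ
          map_add' := fun a b => by
            refine sub_eq_zero.1 (hℓ0 _ ?_)
            have h := hφ (a + b)
            rw [smul_add] at h
            linear_combination h - hφ a - hφ b
          map_smul' := fun b a => by
            refine sub_eq_zero.1 (hℓ0 _ ?_)
            have h1 := hφ (b • a)
            have h2 : g • (b • a) = b • (g • a) := (act g).map_smul b a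
            rw [h2] at h1
            simp only [RingHom.id_apply, Algebra.smul_def] at h1 ⊢
            linear_combination h1 - (algebraMap B A b) * hφ a }
      have e : ∀ x : A ⊗[B] mB, (act g).rTensor mB x - x = ℓ • φₗ.rTensor mB x := by
        intro x
        induction x using TensorProduct.induction_on with
        | zero => simp
        | tmul a m =>
          rw [LinearMap.rTensor_tmul, LinearMap.rTensor_tmul, smul_tmul', ← sub_tmul]
          congr 1
          change g • a - a = ℓ * φ a
          rw [← hφ a, mul_comm]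
        | add x y hx hy => rw [map_add, map_add, smul_add, ← hx, ← hy]; abel
      rw [e]
      exact Submodule.smul_mem_smul hℓM (hstab φₗ t ht)
    intro g
    have hg : g ∈ Submonoid.closure S := by
      rw [← Subgroup.closure_toSubmonoid_of_finite, hS]
      trivial
    induction hg using Submonoid.closure_induction with
    | mem x hx => exact hmem x hx
    | one => exact hone
    | mul x y _ _ hx hy => exact hmul x y hx hy
  let ι : B →ₗ[B] A := Algebra.linearMap B A
  have havg : ∀ t ∈ T, ι.rTensor mB ((avgₗ k A G).rTensor mB t) = 0 := by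
    intro t ht
    have h0 : f.lTensor B ((avgₗ k A G).rTensor mB t) = 0 := by
      rw [← LinearMap.comp_apply, LinearMap.lTensor_comp_rTensor, ← LinearMap.rTensor_comp_lTensor,
        LinearMap.comp_apply, (hT t).1 ht, map_zero]
    rw [Module.Flat.lTensor_preserves_injective_linearMap (M := B) f Subtype.val_injective
      (h0.trans (map_zero _).symm), map_zero]
  have hsum : ∀ x : A ⊗[B] mB, ι.rTensor mB ((avgₗ k A G).rTensor mB x) =
      algebraMap k A (Fintype.card G : k)⁻¹ • ∑ g : G, (act g).rTensor mB x := by
    intro x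
    induction x using TensorProduct.induction_on with
    | zero => simp
    | tmul a m =>
      simp only [LinearMap.rTensor_tmul, ← sum_tmul, smul_tmul']
      rfl
    | add x y hx hy => simp only [map_add, hx, hy, Finset.sum_add_distrib, smul_add]
  have hle : T ≤ M • T := by
    intro t ht
    have h1 : t = algebraMap k A (Fintype.card G : k)⁻¹ • ∑ g : G, (t - (act g).rTensor mB t) := by
      rw [Finset.sum_sub_distrib, smul_sub, ← hsum, havg t ht, sub_zero, Finset.sum_const, Finset.card_univ,
        ← Nat.cast_smul_eq_nsmul A, smul_smul, ← map_natCast (algebraMap k A), ← map_mul, inv_mul_cancel₀ hG,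
        map_one, one_smul]
    rw [h1]
    refine Submodule.smul_mem _ _ (Submodule.sum_mem _ fun g _ => ?_)
    rw [← neg_sub]
    exact Submodule.neg_mem _ (hQ g t ht)
  have hbot : T = ⊥ := Submodule.eq_bot_of_le_smul_of_le_jacobson_bot M T
    (IsNoetherian.noetherian T) hle (IsLocalRing.maximalIdeal_le_jacobson ⊥)
  exact (injective_iff_map_eq_zero _).2 fun t ht => by
    have : t ∈ T := (hT t).2 ht
    rwa [hbot, Submodule.mem_bot] at this

end main

section refl

variable [SMulCommClass G k A] [Finite G] [IsLocalRing A]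

open IsLocalRing in
/-- If the `g a - a` span at most a line in the cotangent space, they generate a principal ideal. -/
theorem exists_generator_moveIdeal [IsNoetherianRing A] [IsDomain A] [FaithfulSMul G A]
    (hG : (Nat.card G : k) ≠ 0) (hres : ∀ a : A, ∃ c : k, a - algebraMap k A c ∈ maximalIdeal A)
    {g : G} (hg1 : g ≠ 1) (hline : ∀ x ∈ moveIdeal A g, x ∉ maximalIdeal A ^ 2 →
      ∀ y ∈ moveIdeal A g, ∃ c : k, y - algebraMap k A c * x ∈ maximalIdeal A ^ 2) :
    ∃ ℓ ∈ maximalIdeal A, (∀ x, ℓ * x = 0 → x = 0) ∧ ∀ a, g • a - a ∈ Ideal.span {ℓ} := by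
  haveI := Fintype.ofFinite G
  let M := maximalIdeal A
  let H := Subgroup.zpowers g
  haveI := Fintype.ofFinite H
  haveI : SMulCommClass H k A := ⟨fun h c a => smul_comm (h : G) c a⟩
  have hH : (Fintype.card H : k) ≠ 0 := fun h => hG (by
    obtain ⟨d, hd⟩ := Subgroup.card_subgroup_dvd_card H
    rw [Nat.card_eq_fintype_card (α := H)] at hd
    rw [hd, Nat.cast_mul, h, zero_mul])
  have hmove : ∀ (h : H) (a : A), h • a - a ∈ moveIdeal A g := fun h a =>
    smul_sub_mem (mem_powers_iff_mem_zpowers.2 h.2) a
  have hloc : ∀ (h : G) {a : A}, a ∈ M → h • a ∈ M := fun h a ha hu => ha (by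
    simpa using hu.map (MulSemiringAction.toRingHom G A h⁻¹))
  have hgM : ∀ a, g • a - a ∈ M := fun a => by
    obtain ⟨c, hc⟩ := hres a
    have h := M.sub_mem (hloc g hc) hc
    rwa [smul_sub, smul_algebraMap', sub_sub_sub_cancel_right] at h
  have hIM : moveIdeal A g ≤ M := Ideal.span_le.2 (by rintro _ ⟨a, rfl⟩; exact hgM a)
  let δ : A → A := fun a => a - avg k H a
  have hδ0 : ∀ a, δ (g • a - a) = g • a - a := fun a => by
    have h : avg k H (g • a - a) = 0 := by
      simp only [avg, smul_sub, Finset.sum_sub_distrib]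
      rw [show ∑ h : H, h • g • a = ∑ h : H, h • a from Fintype.sum_equiv
        (Equiv.mulRight (⟨g, Subgroup.mem_zpowers g⟩ : H)) _ _ fun h => smul_smul (h : G) g a, sub_self, mul_zero]
    simp only [δ, h, sub_zero]
  have hδadd : ∀ a b, δ (a + b) = δ a + δ b := fun a b => by
    simp only [δ, avg, smul_add, Finset.sum_add_distrib, mul_add]; ring
  have hδc : ∀ (c : k) a, δ (algebraMap k A c * a) = algebraMap k A c * δ a := fun c a => by
    have h : avg k H (algebraMap k A c * a) = algebraMap k A c * avg k H a := by
      simp only [avg, smul_mul', smul_algebraMap', ← Finset.mul_sum]; ring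
    simp only [δ, h, mul_sub]
  have hδsq : ∀ a ∈ M ^ 2, δ a ∈ M * moveIdeal A g := by
    intro a ha
    rw [pow_two] at ha
    induction ha using Submodule.mul_induction_on' with
    | mem_mul_mem a ha b hb =>
      have h : δ (a * b) = algebraMap k A (Fintype.card H : k)⁻¹ * ∑ h : H, (a * b - h • (a * b)) := by
        simp only [δ, avg, Finset.sum_sub_distrib, Finset.sum_const, Finset.card_univ, nsmul_eq_mul, mul_sub]
        rw [← map_natCast (algebraMap k A), ← mul_assoc, ← map_mul, inv_mul_cancel₀ hH, map_one, one_mul]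
      rw [h]
      refine Ideal.mul_mem_left _ _ (Ideal.sum_mem _ fun h _ => ?_)
      rw [smul_mul', show a * b - h • a * h • b = b * -(h • a - a) + h • a * -(h • b - b) by ring]
      exact Ideal.add_mem _ (Ideal.mul_mem_mul hb (neg_mem (hmove h a)))
        (Ideal.mul_mem_mul (hloc h ha) (neg_mem (hmove h b)))
    | add a _ b _ ha hb => rw [hδadd]; exact Ideal.add_mem _ ha hb
  by_cases hsq : ∀ a, g • a - a ∈ M ^ 2
  · exfalso
    have hle : moveIdeal A g ≤ M • moveIdeal A g := by
      refine Ideal.span_le.2 ?_
      rintro _ ⟨a, rfl⟩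
      exact hδ0 a ▸ hδsq _ (hsq a)
    have h0 : moveIdeal A g = ⊥ := Submodule.eq_bot_of_le_smul_of_le_jacobson_bot M _
      (IsNoetherian.noetherian _) hle (IsLocalRing.maximalIdeal_le_jacobson ⊥)
    refine hg1 (eq_of_smul_eq_smul (α := A) fun a => ?_)
    rw [one_smul, ← sub_eq_zero, ← Ideal.mem_bot, ← h0]
    exact Ideal.subset_span ⟨a, rfl⟩
  · push Not at hsq
    obtain ⟨a₀, ha₀⟩ := hsq
    let ℓ := g • a₀ - a₀
    have hℓI : ℓ ∈ moveIdeal A g := Ideal.subset_span ⟨a₀, rfl⟩
    refine ⟨ℓ, hgM a₀, fun x hx => (mul_eq_zero.1 hx).resolve_left fun h => ha₀ ?_, fun a => ?_⟩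
    · change ℓ ∈ M ^ 2
      rw [h]; exact zero_mem _
    have hle : moveIdeal A g ≤ Ideal.span {ℓ} ⊔ M • moveIdeal A g := by
      refine Ideal.span_le.2 ?_
      rintro _ ⟨a, rfl⟩
      obtain ⟨c, hc⟩ := hline ℓ hℓI ha₀ _ (Ideal.subset_span ⟨a, rfl⟩)
      have h : δ (g • a - a - algebraMap k A c * ℓ) = g • a - a - algebraMap k A c * ℓ := by
        have h1 := hδadd (g • a - a - algebraMap k A c * ℓ) (algebraMap k A c * ℓ)
        rw [sub_add_cancel, hδ0, hδc, hδ0] at h1
        exact eq_sub_of_add_eq h1.symm |>.symm ▸ rfl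
      rw [← sub_add_cancel (g • a - a) (algebraMap k A c * ℓ)]
      exact Ideal.add_mem _ (Submodule.mem_sup_right (h ▸ hδsq _ hc))
        (Submodule.mem_sup_left (Ideal.mul_mem_left _ _ (Ideal.mem_span_singleton_self ℓ)))
    exact Submodule.le_of_le_smul_of_le_jacobson_bot (IsNoetherian.noetherian _)
      (IsLocalRing.maximalIdeal_le_jacobson ⊥) hle (Ideal.subset_span ⟨a, rfl⟩)

end refl

end Groth.Agent.H14ConstAct
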